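import Groth.Agent.Pi1C604.AugCech
import Groth.Agent.Localalg.LCInst
import Groth.Prelude.Def_Wider
import Mathlib.RingTheory.Localization.Away.Basic
import Mathlib.Algebra.Module.LocalizedModule.IsLocalization

set_option autoImplicit false

/-!
# Čech complexes in arbitrary models and local cohomology

* `nonempty_equiv_H`: `Hh (PS g) M n ≃ₗ[A] LocCoh.H I (n + 1) M`;
* `exact_iff_subsingleton_H`: exactness of the augmented Čech complex at degree `n + 1`;
* models: `L n s` with `f n s : M → L n s` a localization at `T S s` (`s : Fin n → ι`), restriction maps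
  `r n s j : L n (s ∘ j.succAbove) → L (n + 1) s` compatible with `f`; `dL` is the alternating sum of
  the `r`.  `nonempty_model_equiv`: its cohomology is that of `C S n M`;
* `isLocalizedModule_away`: `Localization.Away (∏ i, g (s i))` is such a model for `M = A`, and any
  `IsLocalizedModule (Submonoid.powers (∏ i, g (s i)))` is a model for `M`;
* `awayRes`, `nonempty_away_equiv_H`: the concrete complex `∏_{s} Localization.Away (∏ i, g (s i))`.
-/

universe u

open CategoryTheory Limits
open Groth.Agent.Localalg.LCAbs Groth.Agent.FormalA Groth.Agent.FormalA.LocSub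
open Groth.Agent.FormalA.CechLC (PS)

namespace Groth.Agent.Pi1C604.AugCech

section H

variable {A : Type u} [CommRing A] [IsNoetherianRing A] {ι : Type*} [Finite ι] (g : ι → A)
  {I : Ideal A} (hI : I.radical = (Ideal.span (Set.range g)).radical)

include hI in
/-- The cohomology of the augmented Čech complex is local cohomology. -/
theorem nonempty_equiv_H (n : ℕ) (M : Type u) [AddCommGroup M] [Module A M] :
    Nonempty (Hh (PS g) M n ≃ₗ[A] LocCoh.H I (n + 1) M) :=
  nonempty_equiv g (lc I) hI n (ModuleCat.of A M)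

end H

section Model

variable {A : Type*} [CommRing A] {ι : Type*} (S : ι → Submonoid A)
  {M : Type*} [AddCommGroup M] [Module A M]
  {L : ∀ n : ℕ, (Fin n → ι) → Type*} [∀ n s, AddCommGroup (L n s)] [∀ n s, Module A (L n s)]
  (f : ∀ (n : ℕ) (s : Fin n → ι), M →ₗ[A] L n s)
  (r : ∀ (n : ℕ) (s : Fin (n + 1) → ι) (j : Fin (n + 1)), L n (s ∘ j.succAbove) →ₗ[A] L (n + 1) s)

/-- The differential of a model. -/
noncomputable def dL (n : ℕ) : (∀ s : Fin n → ι, L n s) →ₗ[A] (∀ s : Fin (n + 1) → ι, L (n + 1) s) :=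
  LinearMap.pi fun s => ∑ j : Fin (n + 1),
    (-1 : A) ^ (j : ℕ) • (r n s j ∘ₗ LinearMap.proj (s ∘ j.succAbove))

theorem dL_apply (n : ℕ) (x : ∀ s : Fin n → ι, L n s) (s : Fin (n + 1) → ι) :
    dL r n x s = ∑ j : Fin (n + 1), (-1 : A) ^ (j : ℕ) • r n s j (x (s ∘ j.succAbove)) := by
  simp only [dL, LinearMap.pi_apply, LinearMap.sum_apply]
  rfl

theorem dL_apply_zsmul (n : ℕ) (x : ∀ s : Fin n → ι, L n s) (s : Fin (n + 1) → ι) :
    dL r n x s = ∑ j : Fin (n + 1), ((-1 : ℤ) ^ (j : ℕ)) • r n s j (x (s ∘ j.succAbove)) := by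
  rw [dL_apply]
  refine Finset.sum_congr rfl fun j _ => ?_
  rcases neg_one_pow_eq_or ℤ (j : ℕ) with h | h
  · have h' : (-1 : A) ^ (j : ℕ) = 1 := by
      have := congrArg (Int.cast (R := A)) h
      simpa using this
    rw [h, h', one_smul, one_smul]
  · have h' : (-1 : A) ^ (j : ℕ) = -1 := by
      have := congrArg (Int.cast (R := A)) h
      simpa using this
    rw [h, h', neg_smul, neg_smul, one_smul, one_smul]

variable [∀ n s, IsLocalizedModule (T S s) (f n s)]

/-- Comparison of the standard model with an arbitrary model. -/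
noncomputable def eL (n : ℕ) : C S n M ≃ₗ[A] ∀ s : Fin n → ι, L n s :=
  LinearEquiv.piCongrRight fun s =>
    IsLocalizedModule.linearEquiv (T S s) (LocalizedModule.mkLinearMap (T S s) M) (f n s)

theorem eL_apply (n : ℕ) (x : C S n M) (s : Fin n → ι) :
    eL S f n x s =
      IsLocalizedModule.linearEquiv (T S s) (LocalizedModule.mkLinearMap (T S s) M) (f n s) (x s) :=
  rfl

theorem eL_e0 (m : M) (s : Fin 0 → ι) : eL S f 0 (e0 S M m) s = f 0 s m := by
  rw [eL_apply]
  exact IsLocalizedModule.linearEquiv_apply _ _ _ _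

variable (hr : ∀ (n : ℕ) (s : Fin (n + 1) → ι) (j : Fin (n + 1)) (m : M),
  r n s j (f n _ m) = f (n + 1) s m)

include hr in
theorem dL_eL (n : ℕ) (x : C S n M) : dL r n (eL S f n x) = eL S f (n + 1) (d S n x) := by
  funext s
  rw [dL_apply, eL_apply, d_apply, map_sum]
  refine Finset.sum_congr rfl fun j _ => ?_
  rw [map_smul, eL_apply]
  congr 1
  have : (r n s j) ∘ₗ (IsLocalizedModule.linearEquiv (T S (s ∘ j.succAbove))
      (LocalizedModule.mkLinearMap (T S (s ∘ j.succAbove)) M) (f n _)).toLinearMap =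
      (IsLocalizedModule.linearEquiv (T S s) (LocalizedModule.mkLinearMap (T S s) M)
        (f (n + 1) s)).toLinearMap ∘ₗ res (T_face_le S s j) := by
    refine IsLocalizedModule.ext (T S (s ∘ j.succAbove))
      (LocalizedModule.mkLinearMap (T S (s ∘ j.succAbove)) M) (fun y => ?_) ?_
    · exact IsLocalizedModule.map_units (f (n + 1) s) ⟨y.1, T_face_le S s j y.2⟩
    · ext m
      simp only [LinearMap.comp_apply, LinearEquiv.coe_coe]
      rw [res_mkLinearMap]
      rw [IsLocalizedModule.linearEquiv_apply, IsLocalizedModule.linearEquiv_apply, hr]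
  exact LinearMap.congr_fun this (x (s ∘ j.succAbove))

include S f hr in
theorem dL_dL (n : ℕ) (x : ∀ s : Fin n → ι, L n s) : dL r (n + 1) (dL r n x) = 0 := by
  obtain ⟨y, rfl⟩ := (eL S f n).surjective x
  rw [dL_eL S f r hr, dL_eL S f r hr, d_d, map_zero]

include hr in
/-- The cohomology of any model is that of the standard model. -/
theorem nonempty_model_equiv (n : ℕ) :
    Nonempty ((↥(LinearMap.ker (dL r (n + 1))) ⧸
      (LinearMap.range (dL r n)).submoduleOf (LinearMap.ker (dL r (n + 1)))) ≃ₗ[A] Hh S M n) := by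
  have hker : (LinearMap.ker (d (N := M) S (n + 1))).map
      (eL S f (n + 1) : C S (n + 1) M →ₗ[A] _) = LinearMap.ker (dL r (n + 1)) := by
    ext x
    constructor
    · rintro ⟨y, hy, rfl⟩
      rw [LinearMap.mem_ker]
      change dL r (n + 1) (eL S f (n + 1) y) = 0
      rw [dL_eL S f r hr, show d S (n + 1) y = 0 from hy, map_zero]
    · intro hx
      obtain ⟨y, rfl⟩ := (eL S f (n + 1)).surjective x
      refine ⟨y, ?_, rfl⟩
      rw [LinearMap.mem_ker, dL_eL S f r hr] at hx
      exact (eL S f (n + 1 + 1)).map_eq_zero_iff.1 hx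
  let f1 : ↥(LinearMap.ker (d (N := M) S (n + 1))) ≃ₗ[A] ↥(LinearMap.ker (dL r (n + 1))) :=
    ((eL S f (n + 1)).submoduleMap _) ≪≫ₗ LinearEquiv.ofEq _ _ hker
  refine ⟨(Submodule.Quotient.equiv _ _ f1 ?_).symm⟩
  ext x
  constructor
  · rintro ⟨y, ⟨z, hz⟩, rfl⟩
    refine ⟨eL S f n z, ?_⟩
    rw [dL_eL S f r hr, hz]
    rfl
  · rintro ⟨z, hz⟩
    obtain ⟨z', rfl⟩ := (eL S f n).surjective z
    refine ⟨⟨d S n z', d_d S n z'⟩, ⟨z', rfl⟩, Subtype.ext ?_⟩
    refine Eq.trans ?_ hz
    rw [dL_eL S f r hr]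
    rfl

end Model

section ModelH

variable {A : Type u} [CommRing A] [IsNoetherianRing A] {ι : Type*} [Finite ι] (g : ι → A)
  {I : Ideal A} (hI : I.radical = (Ideal.span (Set.range g)).radical)
  {M : Type u} [AddCommGroup M] [Module A M]
  {L : ∀ n : ℕ, (Fin n → ι) → Type*} [∀ n s, AddCommGroup (L n s)] [∀ n s, Module A (L n s)]
  (f : ∀ (n : ℕ) (s : Fin n → ι), M →ₗ[A] L n s)
  (r : ∀ (n : ℕ) (s : Fin (n + 1) → ι) (j : Fin (n + 1)), L n (s ∘ j.succAbove) →ₗ[A] L (n + 1) s)

omit [IsNoetherianRing A] [Finite ι] in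
theorem powers_prod_le {n : ℕ} (s : Fin n → ι) :
    Submonoid.powers (∏ i, g (s i)) ≤ T (PS g) s := by
  rw [Submonoid.powers_le]
  exact Submonoid.prod_mem _ fun i _ => le_T (PS g) s i (Submonoid.mem_powers _)

omit [IsNoetherianRing A] [Finite ι] in
theorem exists_mul_mem_powers {n : ℕ} (s : Fin n → ι) (a : A) (ha : a ∈ T (PS g) s) :
    ∃ b, a * b ∈ Submonoid.powers (∏ i, g (s i)) := by
  let W : Submonoid A :=
    { carrier := {a | ∃ b, a * b ∈ Submonoid.powers (∏ i, g (s i))}
      mul_mem' := by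
        rintro a a' ⟨b, hb⟩ ⟨b', hb'⟩
        exact ⟨b * b', by rw [mul_mul_mul_comm]; exact Submonoid.mul_mem _ hb hb'⟩
      one_mem' := ⟨1, by rw [mul_one]; exact Submonoid.one_mem _⟩ }
  have : T (PS g) s ≤ W := by
    refine iSup_le fun i => ?_
    change Submonoid.powers (g (s i)) ≤ W
    rw [Submonoid.powers_le]
    refine ⟨∏ j ∈ Finset.univ.erase i, g (s j), ?_⟩
    rw [Finset.mul_prod_erase _ (fun j => g (s j)) (Finset.mem_univ i)]
    exact Submonoid.mem_powers _
  exact this ha

omit [IsNoetherianRing A] [Finite ι] in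
/-- Localizations at the powers of `∏ i, g (s i)` are models. -/
theorem isLocalizedModule_T {n : ℕ} (s : Fin n → ι) {M' : Type*} [AddCommGroup M'] [Module A M']
    {M₀ : Type*} [AddCommGroup M₀] [Module A M₀]
    (φ : M₀ →ₗ[A] M') [h : IsLocalizedModule (Submonoid.powers (∏ i, g (s i))) φ] :
    IsLocalizedModule (T (PS g) s) φ where
  map_units := by
    rintro ⟨a, ha⟩
    obtain ⟨b, hb⟩ := exists_mul_mem_powers g s a ha
    have h1 := h.map_units ⟨a * b, hb⟩
    rw [Module.End.isUnit_iff] at h1 ⊢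
    have h2 : ∀ x : M', (algebraMap A (Module.End A M') (a * b)) x = a • (b • x) := fun x => by
      rw [Module.algebraMap_end_apply, mul_smul]
    constructor
    · intro x y hxy
      apply h1.1
      change (algebraMap A (Module.End A M') (a * b)) x = (algebraMap A (Module.End A M') (a * b)) y
      rw [h2, h2, smul_comm a b x, smul_comm a b y]
      exact congrArg (b • ·) hxy
    · intro y
      obtain ⟨x, hx⟩ := h1.2 y
      exact ⟨b • x, (h2 x).symm.trans hx⟩
  surj := fun y => by
    obtain ⟨⟨x, t⟩, ht⟩ := h.surj y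
    exact ⟨⟨x, ⟨t.1, powers_prod_le g s t.2⟩⟩, ht⟩
  exists_of_eq := fun {x y} hxy => by
    obtain ⟨t, ht⟩ := h.exists_of_eq hxy
    exact ⟨⟨t.1, powers_prod_le g s t.2⟩, ht⟩

variable [∀ n s, IsLocalizedModule (T (PS g) s) (f n s)]
  (hr : ∀ (n : ℕ) (s : Fin (n + 1) → ι) (j : Fin (n + 1)) (m : M),
    r n s j (f n _ m) = f (n + 1) s m)

include hr hI in
/-- The cohomology of any model is local cohomology. -/
theorem nonempty_model_equiv_H (n : ℕ) :
    Nonempty ((↥(LinearMap.ker (dL r (n + 1))) ⧸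
      (LinearMap.range (dL r n)).submoduleOf (LinearMap.ker (dL r (n + 1)))) ≃ₗ[A]
        LocCoh.H I (n + 1) M) := by
  obtain ⟨e⟩ := nonempty_model_equiv (PS g) f r hr n
  obtain ⟨e'⟩ := nonempty_equiv_H g hI n M
  exact ⟨e ≪≫ₗ e'⟩

end ModelH

section Away

variable {A : Type u} [CommRing A] {ι : Type*} (g : ι → A)

/-- The rings of the concrete Čech complex. -/
abbrev AwayL (n : ℕ) (s : Fin n → ι) : Type u := Localization.Away (∏ i, g (s i))

theorem isUnit_prod_face {n : ℕ} (s : Fin (n + 1) → ι) (j : Fin (n + 1)) :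
    IsUnit (algebraMap A (AwayL g (n + 1) s) (∏ i, g ((s ∘ j.succAbove) i))) := by
  have h : IsUnit (algebraMap A (AwayL g (n + 1) s) (∏ i, g (s i))) :=
    IsLocalization.Away.algebraMap_isUnit (S := Localization.Away (∏ i, g (s i))) _
  have h1 : ∏ i, g (s i) = g (s j) * ∏ i, g ((s ∘ j.succAbove) i) :=
    Fin.prod_univ_succAbove (fun i => g (s i)) j
  have h2 : algebraMap A (AwayL g (n + 1) s) (∏ i, g (s i)) =
      algebraMap A (AwayL g (n + 1) s) (g (s j)) *
        algebraMap A (AwayL g (n + 1) s) (∏ i, g ((s ∘ j.succAbove) i)) := by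
    rw [← map_mul]; exact congrArg _ h1
  exact isUnit_of_mul_isUnit_right (h2 ▸ h)

/-- Restriction maps of the concrete Čech complex. -/
noncomputable def awayRes {n : ℕ} (s : Fin (n + 1) → ι) (j : Fin (n + 1)) :
    AwayL g n (s ∘ j.succAbove) →ₐ[A] AwayL g (n + 1) s :=
  { IsLocalization.Away.lift (∏ i, g ((s ∘ j.succAbove) i)) (isUnit_prod_face g s j) with
    commutes' := fun a => IsLocalization.Away.lift_eq _ (isUnit_prod_face g s j) a }

theorem awayRes_algebraMap {n : ℕ} (s : Fin (n + 1) → ι) (j : Fin (n + 1)) (a : A) :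
    awayRes g s j (algebraMap A _ a) = algebraMap A _ a := (awayRes g s j).commutes a

instance isLocalizedModule_away (n : ℕ) (s : Fin n → ι) :
    IsLocalizedModule (T (PS g) s) (Algebra.linearMap A (AwayL g n s)) :=
  isLocalizedModule_T g s _

variable [IsNoetherianRing A] [Finite ι] {I : Ideal A}
  (hI : I.radical = (Ideal.span (Set.range g)).radical)

include hI in
/-- The cohomology of `∏_{s : Fin n → ι} A[1 / ∏ g (s i)]` is the local cohomology of `A`. -/
theorem nonempty_away_equiv_H (n : ℕ) :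
    Nonempty ((↥(LinearMap.ker (dL (fun _ s j => (awayRes g s j).toLinearMap) (n + 1))) ⧸
      (LinearMap.range (dL (fun _ s j => (awayRes g s j).toLinearMap) n)).submoduleOf
        (LinearMap.ker (dL (fun _ s j => (awayRes g s j).toLinearMap) (n + 1)))) ≃ₗ[A]
        LocCoh.H I (n + 1) A) :=
  nonempty_model_equiv_H g hI (fun n s => Algebra.linearMap A (AwayL g n s))
    (fun _ s j => (awayRes g s j).toLinearMap) (fun _ s j m => awayRes_algebraMap g s j m) n

end Away

end Groth.Agent.Pi1C604.AugCech
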