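import Groth.Agent.CalgB.LCLocal
import Groth.Agent.Localalg.ArtinSec
import Groth.Agent.Pi1C604.AugCechH

set_option autoImplicit false

/-!
# Local cohomology at a maximal ideal of a Noetherian ring is Artinian

`R` Noetherian (not necessarily local), `m` a maximal ideal, `N` finite:
* `isArtinian_H`: `H^n(N)` is Artinian, for any realisation `T : LC m`;
* `isArtinian_LocCoh`: the same for `LocCoh.H m n N`;
* `isArtinian_H0'`, `isArtinian_H1`, `isArtinian_H2`, `isArtinian_Hh`: the same for the Čech cohomology
  modules of `N` with respect to a finite family `g` with `rad (g) = m`.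
-/

universe u

open CategoryTheory Limits
open Groth.Agent.Localalg.DeltaFun Groth.Agent.Localalg.Gam Groth.Agent.Localalg.LCAbs
open Groth.Agent.CalgB.LCMod Groth.Agent.CalgB.SuppDim Groth.Agent.CalgB.LCLocal

namespace Groth.Agent.Pi1C604.ArtinLC

variable {R : Type u} [CommRing R] [IsNoetherianRing R] {m : Ideal R} [hm : m.IsMaximal]

/-- A finite module killed by a power of a maximal ideal is Artinian. -/
theorem isArtinian_of_pow_smul (k : ℕ) : ∀ (N : Type u) [AddCommGroup N] [Module R N]
    [Module.Finite R N], (∀ a ∈ m ^ k, ∀ x : N, a • x = 0) → IsArtinian R N := by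
  induction k with
  | zero =>
    intro N _ _ _ h
    have : Subsingleton N := ⟨fun x y => by
      rw [← one_smul R x, ← one_smul R y, h 1 (by simp), h 1 (by simp)]⟩
    infer_instance
  | succ k ih =>
    intro N _ _ _ h
    have h1 : IsArtinian R ↥(m • (⊤ : Submodule R N)) := by
      refine ih _ fun a ha x => Subtype.ext ?_
      change a • (x : N) = 0
      refine Submodule.smul_induction_on x.2 (fun b hb y _ => ?_) (fun y z hy hz => ?_)
      · rw [← mul_smul]
        exact h _ (by rw [pow_succ]; exact Ideal.mul_mem_mul ha hb) y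
      · rw [smul_add, hy, hz, add_zero]
    have h2 : IsArtinian R (N ⧸ (m • (⊤ : Submodule R N))) := by
      have h3 : IsArtinian (R ⧸ m) (N ⧸ (m • (⊤ : Submodule R N))) := by
        let _ := Ideal.Quotient.field m
        have : Module.Finite (R ⧸ m) (N ⧸ (m • (⊤ : Submodule R N))) :=
          Module.Finite.of_restrictScalars_finite R (R ⧸ m) _
        infer_instance
      exact isArtinian_of_surjective_algebraMap (R := R ⧸ m) (S := R)
        (M := N ⧸ (m • (⊤ : Submodule R N))) Ideal.Quotient.mk_surjective
    exact isArtinian_of_range_eq_ker (m • (⊤ : Submodule R N)).subtype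
      (m • (⊤ : Submodule R N)).mkQ (by rw [Submodule.range_subtype, Submodule.ker_mkQ])

theorem isArtinian_gam (N : Type u) [AddCommGroup N] [Module R N] [Module.Finite R N] :
    IsArtinian R (gam m N) := by
  obtain ⟨s, hs⟩ := (IsNoetherian.noetherian (gam m N) : (gam m N).FG)
  have h3 : ∃ k : ℕ, ∀ x ∈ s, ∀ b ∈ m ^ k, b • x = 0 := by
    have hs' : ∀ a ∈ s, a ∈ gam m N := fun a ha => hs ▸ Submodule.subset_span ha
    clear hs
    classical
    induction s using Finset.induction with
    | empty => exact ⟨0, by simp⟩
    | insert a t hat ih =>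
      obtain ⟨k, hk⟩ := ih fun b hb => hs' b (Finset.mem_insert_of_mem hb)
      obtain ⟨l, hl⟩ := hs' a (Finset.mem_insert_self a t)
      refine ⟨max k l, fun c hc b hb => ?_⟩
      rcases Finset.mem_insert.1 hc with rfl | hc
      · exact hl b (Ideal.pow_le_pow_right (le_max_right _ _) hb)
      · exact hk c hc b (Ideal.pow_le_pow_right (le_max_left _ _) hb)
  obtain ⟨k, hk⟩ := h3
  refine isArtinian_of_pow_smul (m := m) k _ fun b hb x => Subtype.ext ?_
  change b • (x : N) = 0
  have hx : (x : N) ∈ Submodule.span R (s : Set N) := hs.symm ▸ x.2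
  refine Submodule.span_induction (p := fun a _ => b • a = 0) ?_ ?_ ?_ ?_ hx
  · intro a ha; exact hk a ha b hb
  · simp
  · intro a c _ _ h h'; rw [smul_add, h, h', add_zero]
  · intro r a _ h
    rw [smul_comm b r, h, smul_zero]

theorem notMem_ass {N : Type u} [AddCommGroup N] [Module R N]
    (h : gam m N = ⊥) : m ∉ associatedPrimes R N := by
  intro hmm
  rw [AssociatedPrimes.mem_iff, isAssociatedPrime_iff] at hmm
  obtain ⟨-, x, hx⟩ := hmm
  have h1 : x ∈ gam m N := by
    refine ⟨1, fun a ha => ?_⟩
    rw [pow_one, hx, Submodule.mem_colon_singleton] at ha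
    exact ha
  rw [h, Submodule.mem_bot] at h1
  subst h1
  have h2 : (1 : R) ∈ m := by
    rw [hx, Submodule.mem_colon_singleton]; simp
  exact (Ideal.ne_top_iff_one _).1 hm.ne_top h2

theorem exists_regular (N : Type u) [AddCommGroup N] [Module R N] [Module.Finite R N]
    (h : gam m N = ⊥) : ∃ x ∈ m, IsSMulRegular N x := by
  obtain ⟨x, hx, hx'⟩ := exists_mem_forall_notMem (J := m) (associatedPrimes.finite R N)
    (fun p hp => hp.isPrime)
    (fun p hp hle => by
      have : m = p := hm.eq_of_le hp.isPrime.ne_top hle
      exact notMem_ass h (this ▸ hp))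
  refine ⟨x, hx, ?_⟩
  by_contra hc
  have h2 : x ∈ ⋃ p ∈ associatedPrimes R N, (p : Set R) := by
    rw [biUnion_associatedPrimes_eq_compl_regular]
    exact hc
  simp only [Set.mem_iUnion] at h2
  obtain ⟨p, hp, hxp⟩ := h2
  exact hx' p hp hxp

variable (T : LC m)

/-- Local cohomology of a finite module with support at a closed point is Artinian. -/
theorem isArtinian_H (n : ℕ) (N : Type u) [AddCommGroup N] [Module R N] [Module.Finite R N] :
    IsArtinian R (H T n N) := by
  induction n generalizing N with
  | zero =>
    have := isArtinian_gam (m := m) N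
    exact isArtinian_of_injective (zeroEquiv T N).toLinearMap (zeroEquiv T N).injective
  | succ n ih =>
    suffices h : IsArtinian R (H T (n + 1) (N ⧸ gam m N)) from
      isArtinian_of_injective (mkQEquiv T n N).toLinearMap (mkQEquiv T n N).injective
    obtain ⟨x, hxm, hx⟩ := exists_regular (m := m) (N ⧸ gam m N) gam_quotient
    set N' := N ⧸ gam m N
    have h1 : IsArtinian R (H T n (QuotSMulTop x N')) := ih _
    have h2 : IsArtinian R (LinearMap.range (conn T hx n)) :=
      isArtinian_of_surjective _ (conn T hx n).rangeRestrict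
        (LinearMap.surjective_rangeRestrict _)
    refine Groth.Agent.Localalg.ArtinSec.isArtinian_of_torsion x (fun y => ?_) ?_
    · obtain ⟨k, hk⟩ := isPowerTorsion_H T (n + 1) N' y
      exact ⟨k, hk _ (Ideal.pow_mem_pow hxm k)⟩
    · have h3 : LinearMap.ker (LinearMap.lsmul R (H T (n + 1) N') x) =
          LinearMap.range (conn T hx n) := (LinearMap.exact_iff.1 (exactC T hx n))
      rw [h3]
      exact h2

/-- Local cohomology of a finite module with support at a closed point is Artinian. -/
theorem isArtinian_LocCoh (n : ℕ) (N : Type u) [AddCommGroup N] [Module R N] [Module.Finite R N] :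
    IsArtinian R (LocCoh.H m n N) :=
  isArtinian_H (lc m) n N

section Cech

open Groth.Agent.FormalA.CechLC

variable {ι : Type*} [Finite ι] (g : ι → R) (hg : m.radical = (Ideal.span (Set.range g)).radical)
  (N : Type u) [AddCommGroup N] [Module R N] [Module.Finite R N]

include hg

theorem isArtinian_H0' : IsArtinian R (H0' (PS g) N) := by
  obtain ⟨e⟩ := H0'_equiv g (lc m) hg (ModuleCat.of R N)
  have := isArtinian_H (lc m) 1 N
  exact isArtinian_of_injective (P := H (lc m) 1 N) e.toLinearMap e.injective

theorem isArtinian_H1 : IsArtinian R (H1 (PS g) N) := by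
  obtain ⟨e⟩ := H1_equiv g (lc m) hg (ModuleCat.of R N)
  have := isArtinian_H (lc m) 2 N
  exact isArtinian_of_injective (P := H (lc m) 2 N) e.toLinearMap e.injective

theorem isArtinian_H2 : IsArtinian R (H2 (PS g) N) := by
  obtain ⟨e⟩ := H2_equiv g (lc m) hg (ModuleCat.of R N)
  have := isArtinian_H (lc m) 3 N
  exact isArtinian_of_injective (P := H (lc m) 3 N) e.toLinearMap e.injective

theorem isArtinian_Hh (n : ℕ) : IsArtinian R (AugCech.Hh (PS g) N n) := by
  obtain ⟨e⟩ := AugCech.nonempty_equiv_H g hg n N
  have := isArtinian_LocCoh (m := m) (n + 1) N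
  exact isArtinian_of_injective (P := LocCoh.H m (n + 1) N) e.toLinearMap e.injective

end Cech

end Groth.Agent.Pi1C604.ArtinLC
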