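import Groth.Agent.FormalA.CechLC
import Mathlib.Data.Fin.Parity

set_option autoImplicit false

/-!
# The augmented Čech complex of a module in all degrees

For `S : ι → Submonoid A`: `C S n N = ∏_{s : Fin n → ι} N_{T S s}`, `T S s = ⨆ i, S (s i)`, with the
alternating differential `d S n`.  `C S 0 N ≃ N`.

* `d_d`, functoriality `map`, exactness of `map`;
* `Good S N`: exactness in positive degrees; `good_of_injective` (injective modules, Noetherian ring);
* `nonempty_equiv`: `ker (d (n+1)) / range (d n) ≃ H^{n+1}_I(N)` for all `n`, and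
  `nonempty_equiv_H` in terms of `LocCoh.H`.
-/

universe u

open CategoryTheory Limits
open Groth.Agent.Localalg.DeltaFun Groth.Agent.Localalg.Gam Groth.Agent.Localalg.LCAbs
open Groth.Agent.FormalA Groth.Agent.FormalA.LocSub

namespace Groth.Agent.Pi1C604.AugCech

section Basic

variable {A : Type*} [CommRing A] {ι : Type*} (S : ι → Submonoid A)

/-- The submonoid inverted on the intersection indexed by `s`. -/
def T {n : ℕ} (s : Fin n → ι) : Submonoid A := ⨆ i, S (s i)

theorem le_T {n : ℕ} (s : Fin n → ι) (i : Fin n) : S (s i) ≤ T S s := le_iSup (fun i => S (s i)) i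

theorem T_face_le {n : ℕ} (s : Fin (n + 1) → ι) (j : Fin (n + 1)) :
    T S (s ∘ j.succAbove) ≤ T S s :=
  iSup_le fun i => le_iSup (fun i => S (s i)) (j.succAbove i)

theorem T_zero (s : Fin 0 → ι) : T S s = ⊥ := by
  rw [T, iSup_of_empty]

theorem T_cons {n : ℕ} (i₀ : ι) (s : Fin n → ι) :
    T S (Fin.cons i₀ s : Fin (n + 1) → ι) = S i₀ ⊔ T S s := by
  apply le_antisymm
  · refine iSup_le fun a => ?_
    refine Fin.cases ?_ (fun b => ?_) a
    · simp
    · simpa using (le_T S s b).trans le_sup_right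
  · refine sup_le ?_ (iSup_le fun b => ?_)
    · simpa using le_T S (Fin.cons i₀ s : Fin (n + 1) → ι) 0
    · simpa using le_T S (Fin.cons i₀ s : Fin (n + 1) → ι) b.succ

/-- Augmented Čech cochains: in degree `n` the product over `n`-tuples. -/
abbrev C (n : ℕ) (N : Type*) [AddCommGroup N] [Module A N] :=
  ∀ s : Fin n → ι, LocalizedModule (T S s) N

variable {N N' N'' : Type*} [AddCommGroup N] [Module A N] [AddCommGroup N'] [Module A N']
  [AddCommGroup N''] [Module A N'']

/-- The differential. -/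
noncomputable def d (n : ℕ) : C S n N →ₗ[A] C S (n + 1) N :=
  LinearMap.pi fun s => ∑ j : Fin (n + 1),
    (-1 : A) ^ (j : ℕ) • (res (T_face_le S s j) ∘ₗ LinearMap.proj (s ∘ j.succAbove))

theorem d_apply (n : ℕ) (x : C S n N) (s : Fin (n + 1) → ι) :
    d S n x s = ∑ j : Fin (n + 1), (-1 : A) ^ (j : ℕ) • res (T_face_le S s j) (x (s ∘ j.succAbove)) := by
  simp only [d, LinearMap.pi_apply, LinearMap.sum_apply]
  rfl

theorem res_congr {n : ℕ} (x : C S n N) {s s' : Fin n → ι} (h : s = s') {U : Submonoid A}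
    (hs : T S s ≤ U) (hs' : T S s' ≤ U) : res hs (x s) = res hs' (x s') := by
  subst h; rfl

theorem d_d (n : ℕ) (x : C S n N) : d S (n + 1) (d S n x) = 0 := by
  funext s
  rw [d_apply]
  change _ = (0 : LocalizedModule (T S s) N)
  have h1 : ∀ i : Fin (n + 2), (-1 : A) ^ (i : ℕ) • res (T_face_le S s i) (d S n x (s ∘ i.succAbove)) =
      ∑ j : Fin (n + 1), (-1 : A) ^ ((i : ℕ) + (j : ℕ)) •
        res ((T_face_le S (s ∘ i.succAbove) j).trans (T_face_le S s i))
          (x ((s ∘ i.succAbove) ∘ j.succAbove)) := by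
    intro i
    rw [d_apply, map_sum, Finset.smul_sum]
    refine Finset.sum_congr rfl fun j _ => ?_
    rw [map_smul, res_res, smul_smul, pow_add]
  simp only [h1]
  rw [← Finset.sum_product', Finset.univ_product_univ]
  refine Finset.sum_involution (fun p _ => (p.1.succAbove p.2, p.2.predAbove p.1)) ?_ ?_ ?_ ?_
  · rintro ⟨i, j⟩ _
    dsimp only
    rw [Fin.neg_one_pow_succAbove_add_predAbove, neg_smul]
    have h : (s ∘ (i.succAbove j).succAbove) ∘ (j.predAbove i).succAbove =
        (s ∘ i.succAbove) ∘ j.succAbove := by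
      funext k
      exact congrArg s (Fin.succAbove_succAbove_succAbove_predAbove i j k)
    rw [res_congr S x h _ ((T_face_le S (s ∘ i.succAbove) j).trans (T_face_le S s i)),
      add_neg_cancel]
  · rintro ⟨i, j⟩ _ _ h
    exact Fin.succAbove_ne i j (congrArg Prod.fst h)
  · intro _ _; exact Finset.mem_univ _
  · rintro ⟨i, j⟩ _
    exact Prod.ext (Fin.succAbove_succAbove_predAbove i j) (Fin.predAbove_predAbove_succAbove i j)

/-- Functoriality. -/
noncomputable def map (n : ℕ) (φ : N →ₗ[A] N') : C S n N →ₗ[A] C S n N' :=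
  LinearMap.pi fun s => lmap _ φ ∘ₗ LinearMap.proj s

theorem map_apply (n : ℕ) (φ : N →ₗ[A] N') (x : C S n N) (s : Fin n → ι) :
    map S n φ x s = lmap _ φ (x s) := rfl

theorem map_d (n : ℕ) (φ : N →ₗ[A] N') (x : C S n N) :
    map S (n + 1) φ (d S n x) = d S n (map S n φ x) := by
  funext s
  simp only [map_apply, d_apply, map_sum, map_smul, res_lmap]

theorem map_comp (n : ℕ) (φ : N →ₗ[A] N') (ψ : N' →ₗ[A] N'') (x : C S n N) :
    map S n ψ (map S n φ x) = map S n (ψ ∘ₗ φ) x := by
  funext s; simp only [map_apply, lmap_comp]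

theorem map_injective (n : ℕ) (φ : N →ₗ[A] N') (h : Function.Injective φ) :
    Function.Injective (map S n φ) := fun x y hxy => by
  funext s
  exact lmap_injective φ h (congr_fun hxy s)

theorem map_surjective (n : ℕ) (φ : N →ₗ[A] N') (h : Function.Surjective φ) :
    Function.Surjective (map S n φ) := fun y => by
  choose x hx using fun s => lmap_surjective φ h (y s)
  exact ⟨x, funext hx⟩

theorem map_exact (n : ℕ) (φ : N →ₗ[A] N') (ψ : N' →ₗ[A] N'') (h : Function.Exact φ ψ)
    (y : C S n N') (hy : map S n ψ y = 0) : ∃ x, map S n φ x = y := by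
  choose x hx using fun s => (lmap_exact (S := T S s) φ ψ h (y s)).1 (congr_fun hy s)
  exact ⟨x, funext hx⟩

theorem map_zero_comp (n : ℕ) (φ : N →ₗ[A] N') (ψ : N' →ₗ[A] N'') (h : ψ ∘ₗ φ = 0)
    (x : C S n N) : map S n ψ (map S n φ x) = 0 := by
  rw [map_comp, h]; funext s; simp [map_apply, lmap]

/-- Exactness in positive degrees. -/
def Good (N : Type*) [AddCommGroup N] [Module A N] : Prop :=
  ∀ (n : ℕ) (x : C S (n + 1) N), d S (n + 1) x = 0 → ∃ y : C S n N, d S n y = x

variable {N₁ N₂ : Type*} [AddCommGroup N₁] [Module A N₁] [AddCommGroup N₂] [Module A N₂]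

theorem Good.of_sum (i₁ : N₁ →ₗ[A] N) (p₁ : N →ₗ[A] N₁) (i₂ : N₂ →ₗ[A] N) (p₂ : N →ₗ[A] N₂)
    (h : ∀ n, i₁ (p₁ n) + i₂ (p₂ n) = n) (h₁ : Good S N₁) (h₂ : Good S N₂) : Good S N := by
  have hl : i₁ ∘ₗ p₁ + i₂ ∘ₗ p₂ = LinearMap.id := LinearMap.ext h
  have hsum : ∀ (T : Submonoid A) (x : LocalizedModule T N),
      lmap T i₁ (lmap T p₁ x) + lmap T i₂ (lmap T p₂ x) = x := by
    intro T x
    rw [lmap_comp, lmap_comp, ← lmap_add, hl, lmap_id]
  intro n x hx
  obtain ⟨y₁, hy₁⟩ := h₁ n (map S _ p₁ x) (by rw [← map_d, hx, map_zero])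
  obtain ⟨y₂, hy₂⟩ := h₂ n (map S _ p₂ x) (by rw [← map_d, hx, map_zero])
  refine ⟨map S _ i₁ y₁ + map S _ i₂ y₂, ?_⟩
  rw [map_add, ← map_d, ← map_d, hy₁, hy₂]
  funext s
  exact hsum _ _

theorem Good.of_torsion (h : ∀ (i : ι) (n : N), ∃ s ∈ S i, s • n = 0) : Good S N := by
  intro n x _
  have : ∀ s : Fin (n + 1) → ι, Subsingleton (LocalizedModule (T S s) N) := fun s =>
    CechSub.subsingleton_of_torsion _ fun m => by
      obtain ⟨t, ht, hm⟩ := h (s 0) m
      exact ⟨t, le_T S s 0 ht, hm⟩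
  exact ⟨0, Subsingleton.elim _ _⟩

theorem cons_comp_succ_succAbove {n : ℕ} (k : ι) (i : Fin (n + 1) → ι) (j : Fin (n + 1)) :
    (Fin.cons k i : Fin (n + 2) → ι) ∘ (j.succ).succAbove =
      (Fin.cons k (i ∘ j.succAbove) : Fin (n + 1) → ι) := by
  funext a
  refine Fin.cases ?_ (fun b => ?_) a
  · simp
  · simp

theorem cons_comp_zero_succAbove {n : ℕ} (k : ι) (i : Fin n → ι) :
    (Fin.cons k i : Fin (n + 1) → ι) ∘ (0 : Fin (n + 1)).succAbove = i := by
  funext a
  simp

theorem T_le_cons {n : ℕ} (i₀ : ι) (s : Fin n → ι) :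
    T S s ≤ T S (Fin.cons i₀ s : Fin (n + 1) → ι) := by
  rw [T_cons]; exact le_sup_right

theorem res_cons_bijective (i₀ : ι) (h : ∀ s ∈ S i₀, Function.Bijective fun n : N => s • n) {n : ℕ}
    (s : Fin n → ι) :
    Function.Bijective (res (T_le_cons S i₀ s) : LocalizedModule (T S s) N →ₗ[A] _) := by
  have h1 := res_bijective_sup (N := N) (S i₀) (T S s) h
  have e := T_cons S i₀ s
  have key : ∀ (U : Submonoid A) (hU : U = S i₀ ⊔ T S s) (hle : T S s ≤ U),
      Function.Bijective (res hle : LocalizedModule (T S s) N →ₗ[A] _) := by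
    rintro U rfl hle
    exact h1
  exact key _ e _

theorem Good.of_bijective (i₀ : ι) (h : ∀ s ∈ S i₀, Function.Bijective fun n : N => s • n) :
    Good S N := by
  intro n x hx
  choose y hy using fun s : Fin n → ι => (res_cons_bijective S i₀ h s).2 (x (Fin.cons i₀ s))
  refine ⟨y, funext fun s => ?_⟩
  apply (res_cons_bijective S i₀ h s).1
  have h1 := congr_fun hx (Fin.cons i₀ s)
  rw [d_apply] at h1
  change _ = (0 : LocalizedModule _ N) at h1
  rw [Fin.sum_univ_succ, Fin.val_zero, pow_zero, one_smul,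
    res_congr S x (cons_comp_zero_succAbove i₀ s) _ (T_le_cons S i₀ s)] at h1
  rw [eq_neg_of_add_eq_zero_left h1, d_apply, map_sum, ← Finset.sum_neg_distrib]
  refine Finset.sum_congr rfl fun j _ => ?_
  rw [Fin.val_succ, pow_succ, mul_neg, mul_one, neg_smul, neg_neg, map_smul, res_res]
  congr 1
  have h2 : T S (Fin.cons i₀ (s ∘ j.succAbove) : Fin (n + 1) → ι) ≤
      T S (Fin.cons i₀ s : Fin (n + 2) → ι) := by
    rw [T_cons, T_cons]
    exact sup_le_sup_left (T_face_le S s j) _
  rw [res_congr S x (cons_comp_succ_succAbove i₀ s j) _ h2, ← hy, res_res]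

end Basic

section Inj

variable {A : Type u} [CommRing A] [IsNoetherianRing A] {ι : Type*} [Finite ι]

open CechInj in
omit [Finite ι] in
theorem good_of_injective_aux (g : ι → A) (W : Finset ι) :
    ∀ (E : Type u) [AddCommGroup E] [Module A E], Module.Injective A E →
      (∀ i ∉ W, Dec (g i) E) → Good (fun i => Submonoid.powers (g i)) E := by
  classical
  induction W using Finset.induction_on with
  | empty =>
    intro E _ _ hE hdec
    by_cases h : ∃ i, Function.Bijective fun n : E => g i • n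
    · obtain ⟨i, hi⟩ := h
      exact Good.of_bijective _ i fun s hs => bijective_pow hi s hs
    · push Not at h
      refine Good.of_torsion _ fun i n => ?_
      obtain ⟨k, hk⟩ := ((hdec i (by simp)).resolve_left (h i)) n
      exact ⟨g i ^ k, ⟨k, rfl⟩, hk⟩
  | insert i W hi ih =>
    intro E _ _ hE hdec
    -- split off the `g i`-power torsion
    let Γ : Submodule A E :=
      ⨆ n : ℕ, Submodule.torsionBySet A E (((Ideal.span {g i}) ^ n : Ideal A) : Set A)
    have hΓ : Module.Injective A Γ :=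
      Groth.Agent.Localalg.InjDecomp.injective_powerTorsion E hE (Ideal.span {g i})
    obtain ⟨r, hr⟩ := hΓ.out Γ.subtype Γ.injective_subtype LinearMap.id
    have hcompl : IsCompl Γ (LinearMap.ker r) :=
      LinearMap.isCompl_of_proj (f := r) hr
    have hE' : Module.Injective A (LinearMap.ker r) :=
      Groth.Agent.Localalg.InjDecomp.injective_of_isCompl hE hcompl.symm
    have hmem : ∀ x : E, x ∈ Γ ↔ ∃ k : ℕ, g i ^ k • x = 0 := fun x => mem_torsion_iff x
    have h1 : Good (fun i => Submonoid.powers (g i)) Γ := by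
      refine ih Γ hΓ fun j hj => ?_
      by_cases hji : j = i
      · subst hji
        refine Or.inr fun n => ?_
        obtain ⟨k, hk⟩ := (hmem n.1).1 n.2
        exact ⟨k, Subtype.ext hk⟩
      · exact (hdec j (by simp [hji, hj])).of_isCompl hcompl
    have h2 : Good (fun i => Submonoid.powers (g i)) (LinearMap.ker r) := by
      refine ih (LinearMap.ker r) hE' fun j hj => ?_
      by_cases hji : j = i
      · subst hji
        refine Or.inl (bijective_of_injective hE' ?_)
        have : ∀ n : LinearMap.ker r, g j • n = 0 → n = 0 := by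
          intro n hn
          have h3 : n.1 ∈ Γ := (hmem n.1).2 ⟨1, by rw [pow_one]; exact congrArg Subtype.val hn⟩
          have h4 : n.1 ∈ Γ ⊓ LinearMap.ker r := ⟨h3, n.2⟩
          rw [hcompl.inf_eq_bot, Submodule.mem_bot] at h4
          exact Subtype.ext h4
        intro a b hab
        rw [← sub_eq_zero]
        apply this
        rw [smul_sub, sub_eq_zero]
        exact hab
      · exact (hdec j (by simp [hji, hj])).of_isCompl hcompl.symm
    have hker : ∀ x : E, (LinearMap.id - Γ.subtype ∘ₗ r : E →ₗ[A] E) x ∈ LinearMap.ker r := by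
      intro x
      rw [LinearMap.mem_ker, LinearMap.sub_apply, map_sub, LinearMap.comp_apply, hr]
      simp
    refine Good.of_sum _ Γ.subtype r (LinearMap.ker r).subtype
      (LinearMap.codRestrict (LinearMap.ker r) (LinearMap.id - Γ.subtype ∘ₗ r : E →ₗ[A] E) hker)
      (fun x => ?_) h1 h2
    simp

/-- Injective modules over a Noetherian ring are Čech acyclic. -/
theorem good_of_injective (g : ι → A) (E : Type u) [AddCommGroup E] [Module A E]
    (hE : Module.Injective A E) : Good (fun i => Submonoid.powers (g i)) E := by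
  classical
  cases nonempty_fintype ι
  exact good_of_injective_aux g Finset.univ E hE fun i hi => absurd (Finset.mem_univ i) hi

end Inj

section Zero

variable {A : Type*} [CommRing A] {ι : Type*} (S : ι → Submonoid A)
variable (N : Type*) [AddCommGroup N] [Module A N]

/-- `C S 0 N ≃ N`. -/
noncomputable def e0 : N →ₗ[A] C S 0 N :=
  LinearMap.pi fun s => LocalizedModule.mkLinearMap (T S s) N

theorem e0_bijective : Function.Bijective (e0 S N) := by
  constructor
  · intro x y hxy
    have h := congr_fun hxy Fin.elim0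
    change LocalizedModule.mkLinearMap _ N x = LocalizedModule.mkLinearMap _ N y at h
    rw [← sub_eq_zero, ← map_sub, mkLinearMap_eq_zero_iff] at h
    obtain ⟨u, hu, h⟩ := h
    rw [T_zero, Submonoid.mem_bot] at hu
    rw [← sub_eq_zero, ← one_smul A (x - y), ← hu, h]
  · intro x
    obtain ⟨n, ⟨u, hu⟩, hn⟩ := exists_eq_mk (x Fin.elim0)
    refine ⟨n, funext fun s => ?_⟩
    obtain rfl : s = Fin.elim0 := Subsingleton.elim _ _
    rw [hn]
    have hu1 : u = 1 := by
      rw [T_zero, Submonoid.mem_bot] at hu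
      exact hu
    subst hu1
    rfl

theorem d_e0 (n : N) (s : Fin 1 → ι) : d S 0 (e0 S N n) s = LocalizedModule.mkLinearMap _ N n := by
  rw [d_apply]
  simp only [Fin.sum_univ_succ, Finset.univ_eq_empty, Finset.sum_empty, add_zero, Fin.val_zero,
    pow_zero, one_smul]
  exact res_mkLinearMap _ _

theorem d_e0_eq_zero_iff (n : N) :
    d S 0 (e0 S N n) = 0 ↔ n ∈ LinearMap.ker (CechSub.ε (N := N) S) := by
  rw [LinearMap.mem_ker]
  constructor
  · intro h
    funext i
    have h1 := congr_fun h (fun _ => i)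
    rw [d_e0] at h1
    change _ = (0 : LocalizedModule _ N) at h1
    rw [mkLinearMap_eq_zero_iff] at h1
    rw [CechSub.ε_apply]
    refine (mkLinearMap_eq_zero_iff _).2 ?_
    obtain ⟨u, hu, h2⟩ := h1
    refine ⟨u, ?_, h2⟩
    have : T S (fun _ : Fin 1 => i) = S i := by
      apply le_antisymm
      · exact iSup_le fun _ => le_rfl
      · exact le_T S (fun _ : Fin 1 => i) 0
    rwa [this] at hu
  · intro h
    funext s
    rw [d_e0]
    refine (mkLinearMap_eq_zero_iff _).2 ?_
    obtain ⟨u, hu, h2⟩ := (mkLinearMap_eq_zero_iff _).1 (congr_fun h (s 0))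
    exact ⟨u, le_T S s 0 hu, h2⟩

/-- Cohomology of the augmented complex in degree `n + 1`. -/
abbrev Hh (n : ℕ) := ↥(LinearMap.ker (d (N := N) S (n + 1))) ⧸
  (LinearMap.range (d (N := N) S n)).submoduleOf (LinearMap.ker (d (N := N) S (n + 1)))

variable {N} {E Q : Type*} [AddCommGroup E] [Module A E] [AddCommGroup Q] [Module A Q]
  (φ : N →ₗ[A] E) (ψ : E →ₗ[A] Q)

theorem shift' (hφ : Function.Injective φ) (hψ : Function.Surjective ψ) (hex : Function.Exact φ ψ)
    (hE : Good S E) (n : ℕ) :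
    Nonempty (Hh S N n ≃ₗ[A] (↥(LinearMap.ker (d (N := Q) S n)) ⧸
      ((LinearMap.ker (d (N := E) S n)).map (map S n ψ)).submoduleOf
        (LinearMap.ker (d (N := Q) S n)))) :=
  CechLC.shift (map S n φ) (map S (n + 1) φ) (map S (n + 2) φ) (map S n ψ) (map S (n + 1) ψ)
    (d S n) (d S (n + 1)) (d S n) (d S (n + 1)) (d S n)
    (map_injective S _ φ hφ) (map_injective S _ φ hφ) (map_surjective S _ ψ hψ)
    (map_exact S _ φ ψ hex) (map_zero_comp S _ φ ψ (hex.linearMap_comp_eq_zero))
    (map_exact S _ φ ψ hex) (map_zero_comp S _ φ ψ (hex.linearMap_comp_eq_zero))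
    (map_d S _ φ) (map_d S _ φ) (map_d S _ ψ) (d_d S _) (hE n)

theorem shiftSucc (hφ : Function.Injective φ) (hψ : Function.Surjective ψ)
    (hex : Function.Exact φ ψ) (hE : Good S E) (n : ℕ) :
    Nonempty (Hh S N (n + 1) ≃ₗ[A] Hh S Q n) := by
  obtain ⟨e⟩ := shift' S φ ψ hφ hψ hex hE (n + 1)
  have : (LinearMap.ker (d (N := E) S (n + 1))).map (map S (n + 1) ψ) =
      LinearMap.range (d (N := Q) S n) := by
    apply le_antisymm
    · rintro _ ⟨x, hx, rfl⟩
      obtain ⟨m, rfl⟩ := hE n x hx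
      exact ⟨map S n ψ m, (map_d S n ψ m).symm⟩
    · rintro _ ⟨m, rfl⟩
      obtain ⟨m', rfl⟩ := map_surjective S n ψ hψ m
      exact ⟨d S n m', d_d S n m', map_d S n ψ m'⟩
  exact ⟨e ≪≫ₗ Submodule.quotEquivOfEq _ _ (by rw [this])⟩

end Zero

section LC

variable {A : Type u} [CommRing A] [IsNoetherianRing A] {ι : Type*} [Finite ι] (g : ι → A)

open CechLC

variable {I : Ideal A} (TT : LC I) (hI : I.radical = (Ideal.span (Set.range g)).radical)

include hI in
theorem zero_equiv (N : ModuleCat.{u} A) : Nonempty (Hh (PS g) N 0 ≃ₗ[A] TT.obj 1 N) := by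
  have hS := injSES_shortExact N
  have hE : Injective (injSES N).X₂ := inferInstanceAs (Injective (Injective.under N))
  have hgood := good_of_injective g (injSES N).X₂ (moduleInjective (injSES N).X₂)
  obtain ⟨e⟩ := shift' (PS g) (injSES N).f.hom (injSES N).g.hom
    ((ModuleCat.mono_iff_injective _).1 hS.mono_f) ((ModuleCat.epi_iff_surjective _).1 hS.epi_g)
    (exact_of_shortExact hS) hgood 0
  let e2 := (TT.oneIso hS (TT.eff _ 0)).toLinearEquiv
  let e3 := (ModuleCat.cokernelIsoRangeQuotient ((gamFunctor I).map (injSES N).g)).toLinearEquiv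
  have hk1 := ker_ε g hI (injSES N).X₃
  have hk2 := ker_ε g hI (injSES N).X₂
  let f0 : (injSES N).X₃ ≃ₗ[A] C (PS g) 0 (injSES N).X₃ :=
    LinearEquiv.ofBijective (e0 (PS g) (injSES N).X₃) (e0_bijective _ _)
  have hf0 : (gam I (injSES N).X₃).map (f0 : (injSES N).X₃ →ₗ[A] _) =
      LinearMap.ker (d (N := (injSES N).X₃) (PS g) 0) := by
    ext x
    constructor
    · rintro ⟨y, hy, rfl⟩
      rw [LinearMap.mem_ker]
      refine (d_e0_eq_zero_iff _ _ y).2 ?_
      rw [hk1]; exact hy
    · intro hx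
      obtain ⟨y, rfl⟩ := f0.surjective x
      refine ⟨y, ?_, rfl⟩
      have := (d_e0_eq_zero_iff _ _ y).1 hx
      rwa [hk1] at this
  -- identify the two quotients
  let f1 : ↥(gam I (injSES N).X₃) ≃ₗ[A] ↥(LinearMap.ker (d (N := (injSES N).X₃) (PS g) 0)) :=
    (f0.submoduleMap (gam I (injSES N).X₃)) ≪≫ₗ LinearEquiv.ofEq _ _ hf0
  let e4 : (↥(gam I (injSES N).X₃) ⧸ LinearMap.range (gamMap I (injSES N).g.hom)) ≃ₗ[A]
      (↥(LinearMap.ker (d (N := (injSES N).X₃) (PS g) 0)) ⧸
      ((LinearMap.ker (d (N := (injSES N).X₂) (PS g) 0)).map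
        (map (PS g) 0 (injSES N).g.hom)).submoduleOf
        (LinearMap.ker (d (N := (injSES N).X₃) (PS g) 0))) :=
    Submodule.Quotient.equiv _ _ f1 (by
      ext x
      constructor
      · rintro ⟨y, ⟨z, rfl⟩, rfl⟩
        refine ⟨e0 (PS g) _ z.1, ?_, ?_⟩
        · refine (d_e0_eq_zero_iff _ _ z.1).2 ?_
          rw [hk2]; exact z.2
        · funext s
          exact lmap_mkLinearMap _ _
      · rintro ⟨z, hz, hzx⟩
        obtain ⟨z', rfl⟩ := (e0_bijective (PS g) (injSES N).X₂).2 z
        have hz' := (d_e0_eq_zero_iff _ _ z').1 hz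
        rw [hk2] at hz'
        refine ⟨gamMap I (injSES N).g.hom ⟨z', hz'⟩, ⟨_, rfl⟩, Subtype.ext ?_⟩
        refine Eq.trans ?_ hzx
        funext s
        exact (lmap_mkLinearMap (S := T (PS g) s) (injSES N).g.hom z').symm)
  exact ⟨e ≪≫ₗ e4.symm ≪≫ₗ e3.symm ≪≫ₗ e2⟩

include hI in
/-- Čech cohomology in degree `n + 1` of the augmented complex is `H^{n+1}_I`. -/
theorem nonempty_equiv (n : ℕ) : ∀ N : ModuleCat.{u} A,
    Nonempty (Hh (PS g) N n ≃ₗ[A] TT.obj (n + 1) N) := by
  induction n with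
  | zero => exact zero_equiv g TT hI
  | succ n ih =>
    intro N
    have hS := injSES_shortExact N
    have hE : Injective (injSES N).X₂ := inferInstanceAs (Injective (Injective.under N))
    have hgood := good_of_injective g (injSES N).X₂ (moduleInjective (injSES N).X₂)
    obtain ⟨e⟩ := shiftSucc (PS g) (injSES N).f.hom (injSES N).g.hom
      ((ModuleCat.mono_iff_injective _).1 hS.mono_f) ((ModuleCat.epi_iff_surjective _).1 hS.epi_g)
      (exact_of_shortExact hS) hgood n
    obtain ⟨e'⟩ := ih (injSES N).X₃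
    exact ⟨e ≪≫ₗ e' ≪≫ₗ (TT.shiftIso hS (n + 1) (TT.eff _ n) (TT.eff _ (n + 1))).toLinearEquiv⟩

end LC

end Groth.Agent.Pi1C604.AugCech
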