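import Mathlib.RingTheory.Unramified.Finite
import Mathlib.RingTheory.Etale.Basic
import Mathlib.Algebra.Module.Projective
import Mathlib.LinearAlgebra.Dual.Lemmas
import Mathlib.RingTheory.TensorProduct.MonoidAlgebra
import Mathlib.RingTheory.IsTensorProduct

/-!
# The trace of a finite projective algebra with a separability idempotent

`IsSep R e` : `e : S ⊗[R] S` is the separability idempotent.  It is unique (`IsSep.unique`), idempotent,
symmetric (`IsSep.comm_eq`) and exists for unramified algebras (`isSep_elem`).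

`IsTr R e τ` : `τ : S →ₗ[R] R` satisfies `(τ ⊗ 1) e = 1`.  For `S` finite projective over `R` it exists
(`exists_isTr`) and is unique (`IsTr.unique`), compatible with base change (`IsTr.baseChange`).

`exists_dualBasis` : `a b : Fin n → S` with `∑ τ (s * a i) * b i = s`, `∑ τ (s * b i) * a i = s`,
`∑ a i * b i = 1`.
-/

set_option autoImplicit false

open TensorProduct

namespace Groth.Agent.Pi1C604.EtTrace

variable {R S : Type*} [CommRing R] [CommRing S] [Algebra R S]

/-- `e` is a separability element (it is then unique, idempotent and symmetric). -/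
structure IsSep (R : Type*) {S : Type*} [CommRing R] [CommRing S] [Algebra R S] (e : S ⊗[R] S) :
    Prop where
  tmul_mul : ∀ s : S, ((1 : S) ⊗ₜ[R] s) * e = (s ⊗ₜ[R] (1 : S)) * e
  mul' : Algebra.TensorProduct.lmul' R e = 1

/-- The separability idempotent of a formally unramified algebra essentially of finite type. -/
theorem isSep_elem (R S : Type*) [CommRing R] [CommRing S] [Algebra R S]
    [Algebra.EssFiniteType R S] [Algebra.FormallyUnramified R S] :
    IsSep R (Algebra.FormallyUnramified.elem R S) :=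
  ⟨fun s => Algebra.FormallyUnramified.one_tmul_mul_elem s,
    Algebra.FormallyUnramified.lmul_elem⟩

namespace IsSep

variable {e e' : S ⊗[R] S}

theorem mul_eq (he : IsSep R e) (x : S ⊗[R] S) :
    x * e = (Algebra.TensorProduct.lmul' R x ⊗ₜ[R] (1 : S)) * e := by
  induction x with
  | zero => simp
  | tmul a b =>
    have h1 : (a ⊗ₜ[R] b : S ⊗[R] S) = (a ⊗ₜ[R] (1 : S)) * ((1 : S) ⊗ₜ[R] b) := by
      rw [Algebra.TensorProduct.tmul_mul_tmul, mul_one, one_mul]
    rw [h1, mul_assoc, he.tmul_mul, ← mul_assoc, Algebra.TensorProduct.tmul_mul_tmul, mul_one,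
      map_mul, Algebra.TensorProduct.lmul'_apply_tmul, Algebra.TensorProduct.lmul'_apply_tmul,
      mul_one, one_mul]
  | add x y hx hy => rw [add_mul, hx, hy, map_add, TensorProduct.add_tmul, add_mul]

theorem unique (he : IsSep R e) (he' : IsSep R e') : e = e' := by
  have h1 := he.mul_eq e'
  have h2 := he'.mul_eq e
  rw [he'.mul', ← Algebra.TensorProduct.one_def, one_mul] at h1
  rw [he.mul', ← Algebra.TensorProduct.one_def, one_mul] at h2
  rw [← h1, mul_comm, h2]

theorem idem (he : IsSep R e) : e * e = e := by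
  rw [he.mul_eq e, he.mul', ← Algebra.TensorProduct.one_def, one_mul]

/-- Images of separability elements under base change type maps. -/
theorem map {R' S' : Type*} [CommRing R'] [CommRing S'] [Algebra R' S'] [Algebra R R']
    [Algebra R S'] [IsScalarTower R R' S'] (he : IsSep R e) (φ : S →ₐ[R] S')
    (hφ : ∀ s' : S', s' ∈ Submodule.span R' (Set.range φ)) (ψ : S ⊗[R] S →ₐ[R] S' ⊗[R'] S')
    (hψ : ∀ a b, ψ (a ⊗ₜ b) = φ a ⊗ₜ φ b) : IsSep R' (ψ e) := by
  constructor
  · intro s'
    induction hφ s' using Submodule.span_induction with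
    | mem x hx =>
      obtain ⟨s, rfl⟩ := hx
      have := congrArg ψ (he.tmul_mul s)
      rwa [map_mul, map_mul, hψ, hψ, map_one] at this
    | zero => simp
    | add x y _ _ hx hy =>
      rw [TensorProduct.tmul_add, add_mul, hx, hy, TensorProduct.add_tmul, add_mul]
    | smul r x _ hx =>
      rw [TensorProduct.tmul_smul, ← TensorProduct.smul_tmul', smul_mul_assoc, hx, smul_mul_assoc]
  · have : ∀ x : S ⊗[R] S, Algebra.TensorProduct.lmul' R' (ψ x) =
        φ (Algebra.TensorProduct.lmul' R x) := by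
      intro x
      induction x with
      | zero => simp
      | tmul a b =>
        rw [hψ, Algebra.TensorProduct.lmul'_apply_tmul, Algebra.TensorProduct.lmul'_apply_tmul,
          map_mul]
      | add x y hx hy => rw [map_add, map_add, hx, hy, map_add, map_add]
    rw [this, he.mul', map_one]

theorem comm_eq (he : IsSep R e) : Algebra.TensorProduct.comm R S S e = e := by
  refine IsSep.unique (R := R) ⟨fun s => ?_, ?_⟩ he
  · have h := congrArg (Algebra.TensorProduct.comm R S S) (he.tmul_mul s)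
    rw [map_mul, map_mul, Algebra.TensorProduct.comm_tmul, Algebra.TensorProduct.comm_tmul] at h
    exact h.symm
  · have : ∀ x : S ⊗[R] S, Algebra.TensorProduct.lmul' R (Algebra.TensorProduct.comm R S S x) =
        Algebra.TensorProduct.lmul' R x := by
      intro x
      induction x with
      | zero => simp
      | tmul a b =>
        rw [Algebra.TensorProduct.comm_tmul, Algebra.TensorProduct.lmul'_apply_tmul,
          Algebra.TensorProduct.lmul'_apply_tmul, mul_comm]
      | add x y hx hy => rw [map_add, map_add, hx, hy, map_add]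
    rw [this, he.mul']

end IsSep

/-- `(φ ⊗ 1) x ∈ S`. -/
noncomputable def app (φ : S →ₗ[R] R) : S ⊗[R] S →ₗ[R] S :=
  (TensorProduct.lid R S).toLinearMap ∘ₗ φ.rTensor S

theorem app_tmul (φ : S →ₗ[R] R) (a b : S) : app φ (a ⊗ₜ[R] b) = φ a • b := by
  simp [app]

/-- `app` is linear over the second factor. -/
theorem app_mul (φ : S →ₗ[R] R) (s : S) (x : S ⊗[R] S) :
    app φ (((1 : S) ⊗ₜ[R] s) * x) = s * app φ x := by
  induction x with
  | zero => simp
  | tmul a b => rw [Algebra.TensorProduct.tmul_mul_tmul, one_mul, app_tmul, app_tmul,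
      mul_smul_comm]
  | add x y hx hy => rw [mul_add, map_add, hx, hy, map_add, mul_add]

theorem app_add (φ ψ : S →ₗ[R] R) (x : S ⊗[R] S) : app (φ + ψ) x = app φ x + app ψ x := by
  induction x with
  | zero => simp
  | tmul a b => rw [app_tmul, app_tmul, app_tmul, LinearMap.add_apply, add_smul]
  | add x y hx hy => rw [map_add, hx, hy, map_add, map_add]; abel

theorem app_sub (φ ψ : S →ₗ[R] R) (x : S ⊗[R] S) : app (φ - ψ) x = app φ x - app ψ x := by
  rw [eq_sub_iff_add_eq, ← app_add, sub_add_cancel]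

/-- `τ` is the trace form attached to the separability element `e`. -/
def IsTr {R S : Type*} [CommRing R] [CommRing S] [Algebra R S] (e : S ⊗[R] S) (τ : S →ₗ[R] R) :
    Prop := app τ e = 1

/-- A finite projective module has a dual basis. -/
theorem exists_coord (R M : Type*) [CommRing R] [AddCommGroup M] [Module R M] [Module.Finite R M]
    [Module.Projective R M] : ∃ (n : ℕ) (x : Fin n → M) (f : Fin n → M →ₗ[R] R),
      ∀ m, ∑ j, f j m • x j = m := by
  obtain ⟨n, p, hp⟩ := Module.Finite.exists_fin' R M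
  obtain ⟨s, hs⟩ := Module.projective_lifting_property p LinearMap.id hp
  refine ⟨n, fun j => p (Pi.single j 1), fun j => LinearMap.proj j ∘ₗ s, fun m => ?_⟩
  have h1 : p (s m) = m := by rw [← LinearMap.comp_apply, hs, LinearMap.id_apply]
  conv_rhs => rw [← h1, ← Finset.univ_sum_single (s m), map_sum]
  refine Finset.sum_congr rfl fun j _ => ?_
  rw [LinearMap.comp_apply, LinearMap.proj_apply, ← map_smul]
  congr 1
  ext i
  by_cases h : i = j
  · subst h; simp
  · simp [Pi.single_eq_of_ne h]

theorem exists_isTr [Module.Finite R S] [Module.Projective R S] {e : S ⊗[R] S} (he : IsSep R e) :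
    ∃ τ : S →ₗ[R] R, IsTr e τ := by
  obtain ⟨n, x, f, hxf⟩ := exists_coord R S
  refine ⟨∑ j, f j ∘ₗ LinearMap.mulRight R (x j), ?_⟩
  have h1 : ∀ y : S ⊗[R] S, app (∑ j, f j ∘ₗ LinearMap.mulRight R (x j)) y =
      ∑ j, app (f j) ((x j ⊗ₜ[R] (1 : S)) * y) := by
    intro y
    induction y with
    | zero => simp
    | tmul a b =>
      rw [app_tmul, LinearMap.sum_apply, Finset.sum_smul]
      refine Finset.sum_congr rfl fun j _ => ?_
      rw [Algebra.TensorProduct.tmul_mul_tmul, one_mul, app_tmul, LinearMap.comp_apply,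
        LinearMap.mulRight_apply, mul_comm]
    | add y z hy hz =>
      rw [map_add, hy, hz, ← Finset.sum_add_distrib]
      refine Finset.sum_congr rfl fun j _ => ?_
      rw [mul_add, map_add]
  have h2 : ∀ y : S ⊗[R] S, ∑ j, x j * app (f j) y = Algebra.TensorProduct.lmul' R y := by
    intro y
    induction y with
    | zero => simp
    | tmul a b =>
      rw [Algebra.TensorProduct.lmul'_apply_tmul]
      conv_rhs => rw [← hxf a, Finset.sum_mul]
      refine Finset.sum_congr rfl fun j _ => ?_
      rw [app_tmul, mul_smul_comm, smul_mul_assoc]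
    | add y z hy hz =>
      rw [map_add, ← hy, ← hz, ← Finset.sum_add_distrib]
      refine Finset.sum_congr rfl fun j _ => ?_
      rw [map_add, mul_add]
  change app _ e = 1
  rw [h1]
  have h3 : ∀ j, app (f j) ((x j ⊗ₜ[R] (1 : S)) * e) = x j * app (f j) e := by
    intro j
    rw [← he.tmul_mul, app_mul]
  simp only [h3]
  rw [h2, he.mul']

namespace IsTr

variable {e : S ⊗[R] S} {τ τ' : S →ₗ[R] R}

/-- `(τ ⊗ 1) ((s ⊗ 1) e) = s`. -/
theorem app_tmul_one_mul (he : IsSep R e) (h : IsTr e τ) (s : S) :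
    app τ ((s ⊗ₜ[R] (1 : S)) * e) = s := by
  rw [← he.tmul_mul, app_mul, show app τ e = 1 from h, mul_one]

/-- A finite family of tensors representing `e`. -/
theorem _root_.Groth.Agent.Pi1C604.EtTrace.exists_fin (e : S ⊗[R] S) :
    ∃ (n : ℕ) (a b : Fin n → S), e = ∑ i, a i ⊗ₜ[R] b i := by
  induction e with
  | zero => exact ⟨0, Fin.elim0, Fin.elim0, by simp⟩
  | tmul a b => exact ⟨1, fun _ => a, fun _ => b, by simp⟩
  | add x y hx hy =>
    obtain ⟨n, a, b, rfl⟩ := hx
    obtain ⟨m, c, d, rfl⟩ := hy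
    refine ⟨n + m, Fin.append a c, Fin.append b d, ?_⟩
    rw [Fin.sum_univ_add]
    simp [Fin.append_left, Fin.append_right]

/-- If `e = ∑ a i ⊗ b i` then `s = ∑ τ (s * a i) • b i`. -/
theorem sum_left (he : IsSep R e) (h : IsTr e τ) {n : ℕ} {a b : Fin n → S}
    (hab : e = ∑ i, a i ⊗ₜ[R] b i) (s : S) : ∑ i, τ (s * a i) • b i = s := by
  conv_rhs => rw [← h.app_tmul_one_mul he s, hab, Finset.mul_sum, map_sum]
  refine Finset.sum_congr rfl fun i _ => ?_
  rw [Algebra.TensorProduct.tmul_mul_tmul, one_mul, app_tmul]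

/-- If `e = ∑ a i ⊗ b i` then `s = ∑ τ (s * b i) • a i`. -/
theorem sum_right (he : IsSep R e) (h : IsTr e τ) {n : ℕ} {a b : Fin n → S}
    (hab : e = ∑ i, a i ⊗ₜ[R] b i) (s : S) : ∑ i, τ (s * b i) • a i = s := by
  refine h.sum_left he (a := b) (b := a) ?_ s
  conv_lhs => rw [← he.comm_eq, hab, map_sum]
  rfl

theorem ext_of_app (he : IsSep R e) (h : IsTr e τ) {φ : S →ₗ[R] R} (hφ : app φ e = 0) : φ = 0 := by
  obtain ⟨n, a, b, hab⟩ := exists_fin e
  ext s
  conv_lhs => rw [← h.sum_right he hab s, map_sum]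
  rw [hab, map_sum] at hφ
  simp only [app_tmul] at hφ
  have h1 := congrArg (fun t => τ (s * t)) hφ
  simp only [Finset.mul_sum, map_sum, mul_zero, map_zero] at h1
  rw [LinearMap.zero_apply, ← h1]
  refine Finset.sum_congr rfl fun i _ => ?_
  rw [map_smul, mul_smul_comm, map_smul, smul_eq_mul, smul_eq_mul, mul_comm]

theorem unique (he : IsSep R e) (h : IsTr e τ) (h' : IsTr e τ') : τ = τ' := by
  have : app (τ - τ') e = 0 := by
    rw [app_sub, show app τ e = 1 from h, show app τ' e = 1 from h', sub_self]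
  rw [← sub_eq_zero]
  exact h.ext_of_app he this

/-- Every linear form is `τ (s * ·)`. -/
theorem exists_eq (he : IsSep R e) (h : IsTr e τ) (φ : S →ₗ[R] R) :
    ∃ s : S, ∀ x, φ x = τ (s * x) := by
  refine ⟨app φ e, fun x => ?_⟩
  have h1 : app (φ - τ ∘ₗ LinearMap.mulLeft R (app φ e)) e = 0 := by
    rw [app_sub]
    have h2 : ∀ y : S ⊗[R] S, ∀ s : S, app (τ ∘ₗ LinearMap.mulLeft R s) y =
        app τ ((s ⊗ₜ[R] (1 : S)) * y) := by
      intro y s
      induction y with
      | zero => simp
      | tmul a b => rw [Algebra.TensorProduct.tmul_mul_tmul, one_mul, app_tmul, app_tmul,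
          LinearMap.comp_apply, LinearMap.mulLeft_apply]
      | add y z hy hz => rw [map_add, hy, hz, mul_add, map_add]
    rw [h2, h.app_tmul_one_mul he, sub_self]
  have h3 := h.ext_of_app he h1
  have h4 := LinearMap.congr_fun h3 x
  rw [LinearMap.sub_apply, LinearMap.zero_apply, sub_eq_zero] at h4
  exact h4

/-- The trace form is nondegenerate. -/
theorem eq_zero_of_forall (he : IsSep R e) (h : IsTr e τ) {s : S} (hs : ∀ x, τ (s * x) = 0) :
    s = 0 := by
  obtain ⟨n, a, b, hab⟩ := exists_fin e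
  rw [← h.sum_left he hab s]
  simp [hs]

/-- Base change of the trace form: `τ'` is determined by `τ' ∘ φ = τ`. -/
theorem map {R' S' : Type*} [CommRing R'] [CommRing S'] [Algebra R' S'] [Algebra R R']
    [Algebra R S'] [IsScalarTower R R' S'] (φ : S →ₐ[R] S')
    (ψ : S ⊗[R] S →ₐ[R] S' ⊗[R'] S')
    (hψ : ∀ a b, ψ (a ⊗ₜ b) = φ a ⊗ₜ φ b) (h : IsTr e τ) (τ' : S' →ₗ[R'] R')
    (hτ : ∀ s, τ' (φ s) = algebraMap R R' (τ s)) : IsTr (ψ e) τ' := by
  have h1 : ∀ y : S ⊗[R] S, app τ' (ψ y) = φ (app τ y) := by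
    intro y
    induction y with
    | zero => simp
    | tmul a b =>
      rw [hψ, app_tmul, app_tmul, hτ, map_smul, algebraMap_smul]
    | add y z hy hz => rw [map_add, map_add, hy, hz, map_add, map_add]
  change app τ' (ψ e) = 1
  rw [h1, show app τ e = 1 from h, map_one]

end IsTr

/-- The trace form of a finite etale algebra: dual bases for `τ`. -/
theorem exists_dualBasis (R S : Type*) [CommRing R] [CommRing S] [Algebra R S] [Module.Finite R S]
    [Algebra.Etale R S] [Module.Projective R S] :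
    ∃ (e : S ⊗[R] S) (τ : S →ₗ[R] R) (n : ℕ) (a b : Fin n → S), IsSep R e ∧ IsTr e τ ∧
      e = ∑ i, a i ⊗ₜ[R] b i ∧ ∑ i, a i * b i = 1 ∧ (∀ s, ∑ i, τ (s * a i) • b i = s) ∧
      ∀ s, ∑ i, τ (s * b i) • a i = s := by
  have he := isSep_elem R S
  obtain ⟨τ, hτ⟩ := exists_isTr he
  obtain ⟨n, a, b, hab⟩ := exists_fin (Algebra.FormallyUnramified.elem R S)
  refine ⟨_, τ, n, a, b, he, hτ, hab, ?_, hτ.sum_left he hab, hτ.sum_right he hab⟩
  rw [← he.mul', hab, map_sum]
  rfl

end Groth.Agent.Pi1C604.EtTrace
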